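import Mathlib.AlgebraicGeometry.AffineSpace
import Mathlib.AlgebraicGeometry.Birational.Birational
import Mathlib.AlgebraicGeometry.Morphisms.FiniteType

/-!
# Rational schemes of finite type
-/

set_option autoImplicit false
set_option backward.isDefEq.respectTransparency false
set_option linter.style.haveILetI false

universe u

open CategoryTheory CategoryTheory.Limits AlgebraicGeometry TopologicalSpace

noncomputable section

namespace Groth.Agent.SpecialBir

/-- A localisation of a polynomial ring of finite type has finitely many variables. -/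
theorem finite_of_finiteType_away (k : Type u) [Field k] (n : Type u) (f : MvPolynomial n k) (hf : f ≠ 0)
    [Algebra.FiniteType k (Localization.Away f)] : Finite n := by
  classical
  let R := Localization.Away f
  obtain ⟨s, hs⟩ := (inferInstance : Algebra.FiniteType k R).out
  have hsurj : ∀ z : R, ∃ p : MvPolynomial n k, ∃ m : ℕ,
      z * algebraMap (MvPolynomial n k) R (f ^ m) = algebraMap (MvPolynomial n k) R p := by
    intro z
    obtain ⟨⟨p, ⟨_, m, rfl⟩⟩, h⟩ := IsLocalization.surj (Submonoid.powers f) z
    exact ⟨p, m, h⟩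
  choose num ex hnum using hsurj
  let σ : Finset n := f.vars ∪ s.biUnion (fun z => (num z).vars)
  by_contra hn
  haveI : Infinite n := not_finite_iff_infinite.mp hn
  obtain ⟨x, hx⟩ := Infinite.exists_notMem_finset σ
  let τ : MvPolynomial n k →ₐ[k] MvPolynomial n k :=
    MvPolynomial.aeval fun i => if i = x then MvPolynomial.X i + 1 else MvPolynomial.X i
  have hfix : ∀ p : MvPolynomial n k, x ∉ p.vars → τ p = p := by
    intro p hp
    conv_rhs => rw [← AlgHom.id_apply (R := k) p]
    refine MvPolynomial.hom_congr_vars (f₁ := τ.toRingHom) (f₂ := (AlgHom.id k _).toRingHom) ?_ ?_ rfl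
    · ext c; simp [τ]
    · intro i hi _
      have : i ≠ x := fun e => hp (e ▸ hi)
      simp [τ, this]
  have hxf : τ f = f := hfix f fun h => hx (Finset.mem_union_left _ h)
  let ι : MvPolynomial n k →ₐ[k] R := IsScalarTower.toAlgHom k _ _
  have hunit : IsUnit (ι f) := IsLocalization.Away.algebraMap_isUnit f
  have hlift : IsUnit ((ι.comp τ).toRingHom f) := by
    show IsUnit (ι (τ f))
    rw [hxf]; exact hunit
  let Θ : R →+* R := IsLocalization.Away.lift f hlift
  have hΘ : ∀ p, Θ (ι p) = ι (τ p) := fun p => IsLocalization.Away.lift_eq f hlift p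
  have hΘc : ∀ c : k, Θ (algebraMap k R c) = algebraMap k R c := fun c => by
    rw [IsScalarTower.algebraMap_apply k (MvPolynomial n k) R]
    exact (hΘ _).trans (congrArg ι (τ.commutes c))
  let Θ' : R →ₐ[k] R := { Θ with commutes' := hΘc }
  have hid : Θ' = AlgHom.id k R := by
    refine AlgHom.ext_of_adjoin_eq_top hs fun z hz => ?_
    show Θ z = z
    have h := hnum z
    have h1 : Θ (z * ι (f ^ ex z)) = Θ (ι (num z)) := congrArg Θ h
    rw [map_mul, hΘ, hΘ, hfix (num z) (fun e => hx (Finset.mem_union_right _
      (Finset.mem_biUnion.mpr ⟨z, Finset.mem_coe.mp hz, e⟩))), map_pow τ, hxf] at h1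
    exact (IsUnit.mul_left_inj (by rw [map_pow]; exact hunit.pow _)).mp (h1.trans h.symm)
  have h2 : ι (τ (MvPolynomial.X x)) = ι (MvPolynomial.X x) := by
    rw [← hΘ]
    exact congrArg (fun e : R →ₐ[k] R => e (ι (MvPolynomial.X x))) hid
  have hinj : Function.Injective ι :=
    IsLocalization.injective R (powers_le_nonZeroDivisors_of_noZeroDivisors hf)
  have h3 := hinj h2
  simp [τ] at h3

theorem birationalOver_of_iso' {S X Y : Scheme.{u}} {sX : X ⟶ S} {sY : Y ⟶ S} (e : X ≅ Y) (h : e.hom ≫ sY = sX) :
    Scheme.BirationalOver sX sY := by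
  haveI : IsDominant e.hom := ⟨e.hom.surjective.denseRange⟩
  exact e.hom.birationalOver sY sX h

/-- A rational scheme locally of finite type is birational to a finite-dimensional affine space, and is irreducible. -/
theorem exists_birationalOver_mvPolynomial {k : Type u} [Field k] {X : Scheme.{u}}
    (f : X ⟶ Spec (CommRingCat.of k)) [LocallyOfFiniteType f] [Scheme.IsRationalOver f] [Nonempty X] :
    ∃ r : ℕ, Scheme.BirationalOver f
        (Spec.map (CommRingCat.ofHom (algebraMap k (MvPolynomial (Fin r) k)))) ∧
      IrreducibleSpace X := by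
  obtain ⟨n, hn⟩ := Scheme.IsRationalOver.exists_birationalOver_affineSpace f
  let R := MvPolynomial n k
  let sP : Spec (CommRingCat.of R) ⟶ Spec (CommRingCat.of k) := Spec.map (CommRingCat.ofHom (algebraMap k R))
  have hP : Scheme.BirationalOver f sP :=
    hn.trans (birationalOver_of_iso' (AffineSpace.SpecIso n (CommRingCat.of k)) (by
      rw [← cancel_epi (AffineSpace.SpecIso n (CommRingCat.of k)).inv, Iso.inv_hom_id_assoc]
      exact (AffineSpace.SpecIso_inv_over (n := n) (CommRingCat.of k)).symm))
  obtain ⟨p, hp⟩ := hP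
  haveI : IsIntegral (Spec (CommRingCat.of R)) := inferInstance
  haveI : Nonempty p.source.toScheme := by
    obtain ⟨x, hx⟩ := p.dense_source.nonempty
    exact ⟨⟨x, hx⟩⟩
  haveI : Nonempty p.target.toScheme := Nonempty.map p.iso.hom inferInstance
  have hirr : IrreducibleSpace X := by
    haveI : PreirreducibleSpace p.target.toScheme := p.target.ι.isOpenEmbedding.preirreducibleSpace
    have hs : IsPreirreducible (p.source : Set X) := by
      have h := (PreirreducibleSpace.isPreirreducible_univ (X := ↥p.target.toScheme)).image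
        (p.iso.inv ≫ p.source.ι) (p.iso.inv ≫ p.source.ι).continuous.continuousOn
      rwa [Set.image_univ, Scheme.Hom.comp_base, TopCat.coe_comp, Set.range_comp,
        p.iso.inv.surjective.range_eq, Set.image_univ, Scheme.Opens.range_ι] at h
    have h2 := hs.closure
    rw [p.dense_source.closure_eq] at h2
    haveI : PreirreducibleSpace X := ⟨h2⟩
    exact ⟨inferInstance⟩
  -- finitely many variables
  obtain ⟨y, hy⟩ := p.dense_target.nonempty
  obtain ⟨_, ⟨g, rfl⟩, hyg, hgV⟩ := PrimeSpectrum.isTopologicalBasis_basic_opens.exists_subset_of_mem_open hy p.target.2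
  have hg0 : g ≠ 0 := fun e => by
    subst e
    simp at hyg
  let c := Spec.map (CommRingCat.ofHom (algebraMap R (Localization.Away g)))
  haveI : IsOpenImmersion c := IsOpenImmersion.of_isLocalization g
  let c' : Spec (CommRingCat.of (Localization.Away g)) ⟶ p.target.toScheme := IsOpenImmersion.lift p.target.ι c (by
    rw [Scheme.Opens.range_ι]
    exact (PrimeSpectrum.localization_away_comap_range (Localization.Away g) g).le.trans hgV)
  have hc' : c' ≫ p.target.ι = c := IsOpenImmersion.lift_fac _ _ _
  haveI : IsOpenImmersion (c' ≫ p.target.ι) := hc' ▸ inferInstance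
  haveI : IsOpenImmersion c' := IsOpenImmersion.of_comp c' p.target.ι
  haveI : LocallyOfFiniteType (p.target.ι ≫ sP) := by
    have e : p.target.ι ≫ sP = p.iso.inv ≫ p.source.ι ≫ f := by rw [← hp, Iso.inv_hom_id_assoc]
    rw [e]; infer_instance
  have hft : LocallyOfFiniteType (c ≫ sP) := by
    rw [← hc', Category.assoc]; infer_instance
  haveI : Algebra.FiniteType k (Localization.Away g) := by
    rw [← RingHom.finiteType_algebraMap]
    rw [← Spec.map_comp, HasRingHomProperty.Spec_iff (P := @LocallyOfFiniteType), ← CommRingCat.ofHom_comp,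
      ← IsScalarTower.algebraMap_eq] at hft
    exact hft
  haveI := finite_of_finiteType_away k n g hg0
  obtain ⟨r, ⟨e⟩⟩ := Finite.exists_equiv_fin n
  refine ⟨r, (show Scheme.BirationalOver f sP from ⟨p, hp⟩).trans ?_, hirr⟩
  let φ : MvPolynomial n k ≃ₐ[k] MvPolynomial (Fin r) k := MvPolynomial.renameEquiv k e
  refine birationalOver_of_iso' (Scheme.Spec.mapIso φ.symm.toRingEquiv.toCommRingCatIso.op) ?_
  show Spec.map _ ≫ Spec.map _ = Spec.map _
  rw [← Spec.map_comp]
  congr 1
  exact CommRingCat.hom_ext (RingHom.ext fun c => φ.symm.commutes c)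

end Groth.Agent.SpecialBir
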