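import Groth.Agent.SpecialBirLib.Quot
import Groth.Agent.SpecialBirLib.Rational
import Groth.Agent.AssocBundleLib.QuotScheme
import Groth.Agent.BirProdLib.Ops
import Groth.Prelude.Def_AGF

/-!
# Quotients by a common subgroup of rational special groups
-/

set_option autoImplicit false
set_option linter.style.haveILetI false
set_option backward.isDefEq.respectTransparency false
set_option backward.isDefEq.respectTransparency.types false

universe u

open CategoryTheory CategoryTheory.Limits MonoidalCategory CartesianMonoidalCategory MonObj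
  AlgebraicGeometry

noncomputable section

namespace Groth.Agent.SpecialBir

variable {k : Type u} [Field k] {G G₁ G₂ : Over (Spec (CommRingCat.of k))} [GrpObj G] [GrpObj G₁] [GrpObj G₂]

theorem isMonHom_lift {S : Scheme.{u}} {G G₁ G₂ : Over S} [GrpObj G] [GrpObj G₁] [GrpObj G₂]
    (i₁ : G ⟶ G₁) (i₂ : G ⟶ G₂) [IsMonHom i₁] [IsMonHom i₂] : IsMonHom (lift i₁ i₂ : G ⟶ G₁ ⊗ G₂) := by
  refine { one_hom := ?_, mul_hom := ?_ }
  · apply CartesianMonoidalCategory.hom_ext
    · rw [Category.assoc, lift_fst, IsMonHom.one_hom i₁, IsMonHom.one_hom (fst G₁ G₂)]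
    · rw [Category.assoc, lift_snd, IsMonHom.one_hom i₂, IsMonHom.one_hom (snd G₁ G₂)]
  · have hr : (lift i₁ i₂ ⊗ₘ lift i₁ i₂) ≫ μ[G₁ ⊗ G₂] =
        (fst G G ≫ lift i₁ i₂) * (snd G G ≫ lift i₁ i₂) := by
      rw [Hom.mul_def, ← lift_map, lift_fst_snd, Category.id_comp]
    have hμ : μ[G] = fst G G * snd G G := by rw [Hom.mul_def, lift_fst_snd, Category.id_comp]
    rw [hr, hμ]
    apply CartesianMonoidalCategory.hom_ext
    · simp only [MonObj.mul_comp, Category.assoc, lift_fst]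
    · simp only [MonObj.mul_comp, Category.assoc, lift_snd]

/-- Exchange of the two factors. -/
theorem exists_swap {S : Scheme.{u}} {G G₁ G₂ X : Over S} [GrpObj G] [GrpObj G₁] [GrpObj G₂]
    (i₁ : G ⟶ G₁) (i₂ : G ⟶ G₂) (A : AlgGrp.Action (G₁ ⊗ G₂) X) (o : 𝟙_ (Over S) ⟶ X)
    [Flat (A.orbitMap o).left] [Surjective (A.orbitMap o).left]
    (hq : IsPullback (fst (G₁ ⊗ G₂) G) (((G₁ ⊗ G₂) ◁ lift i₁ i₂) ≫ μ[G₁ ⊗ G₂]) (A.orbitMap o) (A.orbitMap o)) :
    ∃ A' : AlgGrp.Action (G₂ ⊗ G₁) X, Flat (A'.orbitMap o).left ∧ Surjective (A'.orbitMap o).left ∧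
      IsPullback (fst (G₂ ⊗ G₁) G) (((G₂ ⊗ G₁) ◁ lift i₂ i₁) ≫ μ[G₂ ⊗ G₁]) (A'.orbitMap o) (A'.orbitMap o) := by
  let σ : G₂ ⊗ G₁ ⟶ G₁ ⊗ G₂ := lift (snd G₂ G₁) (fst G₂ G₁)
  haveI : IsMonHom σ := isMonHom_lift (snd G₂ G₁) (fst G₂ G₁)
  haveI : IsIso σ := ⟨lift (snd G₁ G₂) (fst G₁ G₂),
    by apply CartesianMonoidalCategory.hom_ext <;> simp [σ],
    by apply CartesianMonoidalCategory.hom_ext <;> simp [σ]⟩
  haveI : IsIso σ.left := inferInstanceAs (IsIso ((Over.forget S).map σ))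
  have e : (A.restrict σ).orbitMap o = σ ≫ A.orbitMap o := by
    rw [AlgGrp.Action.orbitMap, AlgGrp.Action.lift_restrict_act, Category.id_comp, AlgGrp.Action.orbitMap,
      comp_lift_assoc, Category.comp_id, ← Category.assoc σ, toUnit_unique (σ ≫ toUnit _) (toUnit _)]
  refine ⟨A.restrict σ, ?_, ?_, ?_⟩
  · rw [e, Over.comp_left]; infer_instance
  · rw [e, Over.comp_left]; infer_instance
  rw [e]
  refine hq.of_iso (asIso (σ ▷ G)).symm (asIso σ).symm (asIso σ).symm (Iso.refl _) ?_ ?_ ?_ ?_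
  · simp only [Iso.symm_hom, asIso_inv]
    rw [IsIso.eq_inv_comp, ← Category.assoc, IsIso.comp_inv_eq, CartesianMonoidalCategory.whiskerRight_fst]
  · simp only [Iso.symm_hom, asIso_inv]
    rw [IsIso.eq_inv_comp, ← Category.assoc, IsIso.comp_inv_eq]
    apply AlgGrp.Action.hom_ext_lift₂
    intro T p h
    rw [lift_whiskerRight_assoc, lift_whiskerLeft_assoc, ← Hom.mul_def, ← Category.assoc _ _ σ,
      lift_whiskerLeft_assoc, ← Hom.mul_def, MonObj.mul_comp]
    congr 1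
    simp [σ, comp_lift]
  · simp [asIso_inv]
  · simp [asIso_inv]

theorem birationalOver_quot (i₁ : G ⟶ G₁) (i₂ : G ⟶ G₂) [IsMonHom i₁] [IsMonHom i₂]
    [LocallyOfFiniteType G₁.hom] [LocallyOfFiniteType G₂.hom] [QuasiCompact G₁.hom] [QuasiCompact G₂.hom]
    [Scheme.IsRationalOver G₁.hom] [Scheme.IsRationalOver G₂.hom]
    (hsp : (∀ (X' Y' : Over (Spec (CommRingCat.of k))) (a : AlgGrp.Action G₂ X') (p : X' ⟶ Y'),
      LocallyOfFiniteType X'.hom → QuasiCompact X'.hom → LocallyOfFiniteType Y'.hom → QuasiCompact Y'.hom →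
      Flat p.left → Surjective p.left → IsPullback a.act.left (snd G₂ X').left p.left p.left →
      ∀ y : ↥Y'.left, ∃ (W : Y'.left.Opens) (s : (W : Scheme.{u}) ⟶ X'.left), y ∈ W ∧ s ≫ p.left = W.ι))
    {X : Over (Spec (CommRingCat.of k))} [LocallyOfFiniteType X.hom] [QuasiCompact X.hom]
    (A : AlgGrp.Action (G₁ ⊗ G₂) X) (o : 𝟙_ (Over (Spec (CommRingCat.of k))) ⟶ X)
    (hq : IsPullback (fst (G₁ ⊗ G₂) G) (((G₁ ⊗ G₂) ◁ lift i₁ i₂) ≫ μ[G₁ ⊗ G₂]) (A.orbitMap o) (A.orbitMap o))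
    [Flat (A.orbitMap o).left] [Surjective (A.orbitMap o).left]
    (Q₁ : Over (Spec (CommRingCat.of k))) (a₁ : AlgGrp.Action G₁ Q₁)
    (o₁ : 𝟙_ (Over (Spec (CommRingCat.of k))) ⟶ Q₁) (hQ₁ : AGF.IsQuotient i₁ Q₁ a₁ o₁) :
    ∃ r : ℕ, Scheme.BirationalOver X.hom
      (pullback.fst Q₁.hom (Spec.map (CommRingCat.ofHom (algebraMap k (MvPolynomial (Fin r) k)))) ≫ Q₁.hom) := by
  obtain ⟨hlft, hf₁, hs₁, hq₁⟩ := hQ₁
  haveI := hlft; haveI := hf₁; haveI := hs₁
  haveI : Nonempty G₁.left := ⟨(η[G₁]).left (IsLocalRing.closedPoint k)⟩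
  haveI : Nonempty G₂.left := ⟨(η[G₂]).left (IsLocalRing.closedPoint k)⟩
  haveI : IsLocallyNoetherian X.left := LocallyOfFiniteType.isLocallyNoetherian X.hom
  haveI : IsLocallyNoetherian Q₁.left := LocallyOfFiniteType.isLocallyNoetherian Q₁.hom
  haveI : QuasiCompact (G₁ ⊗ G₂).hom := AssocBundle.quasiCompact_tensor G₁ G₂
  haveI : QuasiCompact ((A.orbitMap o).left ≫ X.hom) := by rw [Over.w]; infer_instance
  haveI : QuasiCompact (A.orbitMap o).left := QuasiCompact.of_comp (A.orbitMap o).left X.hom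
  haveI : SchDesc.IsFpqc (A.orbitMap o).left := SchDesc.IsFpqc.of_quasiCompact _
  haveI : CompactSpace G₁.left := (quasiCompact_iff_compactSpace G₁.hom).mp inferInstance
  haveI hQqc : QuasiCompact Q₁.hom := by
    rw [quasiCompact_iff_compactSpace]
    exact ⟨(a₁.orbitMap o₁).left.surjective.range_eq ▸ isCompact_range (a₁.orbitMap o₁).left.continuous⟩
  haveI : Flat G₂.hom := inferInstance
  obtain ⟨pr, hpf, hps, hpr⟩ := exists_torsor i₁ i₂ A o hq hq₁
  haveI := hpf; haveI := hps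
  obtain ⟨r, hr, -⟩ := exists_birationalOver_mvPolynomial G₂.hom
  obtain ⟨-, -, hirr⟩ := exists_birationalOver_mvPolynomial G₁.hom
  haveI := hirr
  haveI : PreirreducibleSpace Q₁.left := ⟨by
    rw [← (a₁.orbitMap o₁).left.surjective.range_eq, ← Set.image_univ]
    exact (PreirreducibleSpace.isPreirreducible_univ (X := G₁.left)).image _
      (a₁.orbitMap o₁).left.continuous.continuousOn⟩
  let y : Q₁.left := (a₁.orbitMap o₁).left ((η[G₁]).left (IsLocalRing.closedPoint k))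
  obtain ⟨W, s, hy, hs⟩ := hsp X Q₁ (A.restrict (inr G₁ G₂)) pr inferInstance inferInstance hlft hQqc hpf hps
    (hpr.map (Over.forget _)) y
  have hW : Dense (W : Set Q₁.left) := W.2.dense ⟨y, hy⟩
  let W' : Over (Spec (CommRingCat.of k)) := Over.mk (W.ι ≫ Q₁.hom)
  let so : W' ⟶ X := Over.homMk s (by
    show s ≫ X.hom = W.ι ≫ Q₁.hom
    rw [← Over.w pr, reassoc_of% hs])
  let jm : W' ⊗ G₂ ⟶ X := lift (snd W' G₂) (fst W' G₂ ≫ so) ≫ (A.restrict (inr G₁ G₂)).act
  have htriv : IsPullback (fst W' G₂).left jm.left W.ι pr.left := by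
    have h := (AssocBundle.isPullback_trivial hpr so).map (Over.forget _)
    have e : (Over.forget (Spec (CommRingCat.of k))).map (so ≫ pr) = W.ι := hs
    rw [e] at h
    exact h
  haveI : IsOpenImmersion jm.left := MorphismProperty.of_isPullback (P := @IsOpenImmersion) htriv inferInstance
  haveI : LocallyOfFinitePresentation pr.left := by
    haveI : LocallyOfFiniteType (pr.left ≫ Q₁.hom) := by rw [Over.w]; infer_instance
    haveI : LocallyOfFiniteType pr.left := locallyOfFiniteType_of_comp pr.left Q₁.hom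
    exact LocallyOfFinitePresentation.iff_locallyOfFiniteType.2 inferInstance
  haveI : IsDominant jm.left := by
    refine ⟨?_⟩
    show Dense (Set.range jm.left)
    have hr : Set.range jm.left = pr.left ⁻¹' Set.range W.ι := by
      rw [← htriv.isoPullback_hom_snd, Scheme.Hom.comp_base, TopCat.coe_comp, Set.range_comp,
        htriv.isoPullback.hom.surjective.range_eq, Set.image_univ, Scheme.Pullback.range_snd]
      rfl
    rw [hr, Scheme.Opens.range_ι]
    exact hW.preimage pr.left.isOpenMap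
  have h1 : Scheme.BirationalOver (W' ⊗ G₂).hom X.hom :=
    jm.left.birationalOver X.hom (W' ⊗ G₂).hom (Over.w jm)
  haveI : IsDominant W.ι := ⟨by
    show Dense (Set.range W.ι)
    rw [Scheme.Opens.range_ι]; exact hW⟩
  have h2 := BirProdLib.birationalOver_prod_immersion W.ι Q₁.hom G₂.hom (rfl : W.ι ≫ Q₁.hom = _)
  refine ⟨r, h1.symm.trans (Scheme.BirationalOver.trans ?_ (((BirProdLib.birationalOver_swap Q₁.hom G₂.hom).trans
    (BirProdLib.birationalOver_prod Q₁.hom hr)).trans (BirProdLib.birationalOver_swap _ _)))⟩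
  exact h2

end Groth.Agent.SpecialBir
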