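import Groth.Prelude.Def_ChGrp
import Groth.Agent.AssocBundleLib.Square
import Groth.Agent.TorsorPushLib.Main
import Groth.Agent.FpqcDesc.Stalk

/-!
# The quotient of a product of two groups by a common subgroup, as a torsor over the first quotient
-/

set_option autoImplicit false
set_option linter.style.haveILetI false
set_option backward.isDefEq.respectTransparency false
set_option backward.isDefEq.respectTransparency.types false

universe u

open CategoryTheory CategoryTheory.Limits MonoidalCategory CartesianMonoidalCategory MonObj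
  AlgebraicGeometry

noncomputable section

namespace Groth.Agent.SpecialBir

variable {S : Scheme.{u}}

/-- Two points of a coset space agree iff they differ by the subgroup. -/
theorem exists_coset_mul {G K X : Over S} [GrpObj K] {i : G ⟶ K} {q : K ⟶ X}
    (hq : IsPullback (fst K G) ((K ◁ i) ≫ μ[K]) q q) {T : Over S} (p p' : T ⟶ K) (e : p ≫ q = p' ≫ q) :
    ∃ h : T ⟶ G, p' = p * (h ≫ i) := by
  refine ⟨hq.lift p p' e ≫ snd K G, ?_⟩
  have hl : hq.lift p p' e = lift p (hq.lift p p' e ≫ snd K G) := by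
    apply CartesianMonoidalCategory.hom_ext
    · rw [lift_fst, hq.lift_fst]
    · rw [lift_snd]
  conv_lhs => rw [← hq.lift_snd p p' e, hl]
  rw [lift_whiskerLeft_assoc, ← Hom.mul_def]

theorem coset_mul_eq {G K X : Over S} [GrpObj K] {i : G ⟶ K} {q : K ⟶ X}
    (hq : IsPullback (fst K G) ((K ◁ i) ≫ μ[K]) q q) {T : Over S} (p : T ⟶ K) (h : T ⟶ G) :
    (p * (h ≫ i)) ≫ q = p ≫ q := by
  have e := congrArg (lift p h ≫ ·) hq.w
  simp only [lift_fst_assoc] at e
  rw [e, ← Category.assoc, lift_whiskerLeft_assoc, ← Hom.mul_def]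

theorem coset_mul_left_cancel {G K X : Over S} [GrpObj G] [GrpObj K] {i : G ⟶ K} [IsMonHom i] {q : K ⟶ X}
    (hq : IsPullback (fst K G) ((K ◁ i) ≫ μ[K]) q q) {T : Over S} (p : T ⟶ K) (h : T ⟶ G)
    (e : p * (h ≫ i) = p) : h = 1 := by
  have e' : lift p h = lift p (1 : T ⟶ G) := by
    apply hq.hom_ext
    · rw [lift_fst, lift_fst]
    · rw [lift_whiskerLeft_assoc, lift_whiskerLeft_assoc, ← Hom.mul_def, ← Hom.mul_def, e,
        MonObj.one_comp, _root_.mul_one]
  simpa using congrArg (· ≫ snd K G) e'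

theorem exists_qc_lift {T A B : Over S} (p : A ⟶ B) [Flat p.left] [Surjective p.left] [QuasiCompact p.left] (t : T ⟶ B) :
    ∃ (T' : Over S) (k : T' ⟶ T) (g : T' ⟶ A), Flat k.left ∧ Surjective k.left ∧ QuasiCompact k.left ∧
      g ≫ p = k ≫ t := by
  have hw : (pullback.fst p.left t.left) ≫ A.hom = pullback.snd p.left t.left ≫ T.hom := by
    rw [← Over.w p, ← Category.assoc, pullback.condition, Category.assoc, Over.w t]
  let T' : Over S := Over.mk (pullback.snd p.left t.left ≫ T.hom)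
  exact ⟨T', Over.homMk (pullback.snd p.left t.left) rfl, Over.homMk (pullback.fst p.left t.left) hw,
    MorphismProperty.pullback_snd (P := @Flat) _ _ ‹_›, MorphismProperty.pullback_snd (P := @Surjective) _ _ ‹_›,
    MorphismProperty.pullback_snd (P := @QuasiCompact) _ _ ‹_›, Over.OverMorphism.ext pullback.condition⟩

variable {G G₁ G₂ : Over S} [GrpObj G] [GrpObj G₁] [GrpObj G₂]

/-- The inclusion of the second factor. -/
def inr (G₁ G₂ : Over S) [GrpObj G₁] [GrpObj G₂] : G₂ ⟶ G₁ ⊗ G₂ := lift 1 (𝟙 G₂)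

theorem comp_inr {T : Over S} (g : T ⟶ G₂) : g ≫ inr G₁ G₂ = lift (1 : T ⟶ G₁) g := by
  rw [inr, comp_lift, MonObj.comp_one, Category.comp_id]

instance isMonHom_inr : IsMonHom (inr G₁ G₂) := by
  have hone : η[G₂] ≫ inr G₁ G₂ = η[G₁ ⊗ G₂] := by
    apply CartesianMonoidalCategory.hom_ext
    · rw [comp_inr, lift_fst, IsMonHom.one_hom (fst G₁ G₂), Hom.one_def,
        toUnit_unique (toUnit (𝟙_ (Over S))) (𝟙 _), Category.id_comp]
    · rw [comp_inr, lift_snd, IsMonHom.one_hom (snd G₁ G₂)]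
  refine { one_hom := hone, mul_hom := ?_ }
  have hμ₂ : μ[G₂] = fst G₂ G₂ * snd G₂ G₂ := by rw [Hom.mul_def, lift_fst_snd, Category.id_comp]
  have hr : (inr G₁ G₂ ⊗ₘ inr G₁ G₂) ≫ μ[G₁ ⊗ G₂] =
      (fst G₂ G₂ ≫ inr G₁ G₂) * (snd G₂ G₂ ≫ inr G₁ G₂) := by
    rw [Hom.mul_def, ← lift_map, lift_fst_snd, Category.id_comp]
  rw [hr, hμ₂]
  apply CartesianMonoidalCategory.hom_ext
  · simp only [comp_inr, MonObj.mul_comp, lift_fst, _root_.one_mul]
  · simp only [comp_inr, MonObj.mul_comp, lift_snd]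

variable (i₁ : G ⟶ G₁) (i₂ : G ⟶ G₂) [IsMonHom i₁] [IsMonHom i₂]
  {X : Over S} (A : AlgGrp.Action (G₁ ⊗ G₂) X) (o : 𝟙_ (Over S) ⟶ X)
  (hq : IsPullback (fst (G₁ ⊗ G₂) G) (((G₁ ⊗ G₂) ◁ lift i₁ i₂) ≫ μ[G₁ ⊗ G₂]) (A.orbitMap o) (A.orbitMap o))
  {Q₁ : Over S} {q₁ : G₁ ⟶ Q₁} (hq₁ : IsPullback (fst G₁ G) ((G₁ ◁ i₁) ≫ μ[G₁]) q₁ q₁)
  [SchDesc.IsFpqc (A.orbitMap o).left] [QuasiCompact (A.orbitMap o).left] [Flat q₁.left] [Surjective q₁.left] [Flat G₂.hom]

theorem lift_orbit {T : Over S} (g p : T ⟶ G₁ ⊗ G₂) :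
    lift g (p ≫ A.orbitMap o) ≫ A.act = (g * p) ≫ A.orbitMap o := by
  have e : ∀ m : T ⟶ G₁ ⊗ G₂, m ≫ A.orbitMap o = lift m (toUnit T ≫ o) ≫ A.act := fun m => by
    rw [AlgGrp.Action.orbitMap, comp_lift_assoc, Category.comp_id, ← Category.assoc m,
      toUnit_unique (m ≫ toUnit (G₁ ⊗ G₂)) (toUnit T)]
  rw [e, e, AlgGrp.Action.lift_mul_act]

include hq hq₁ in
/-- The quotient of `G₁ × G₂` is a `G₂`-torsor over `G₁ / G`. -/
theorem exists_torsor :
    ∃ pr : X ⟶ Q₁, Flat pr.left ∧ Surjective pr.left ∧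
      IsPullback (A.restrict (inr G₁ G₂)).act (snd G₂ X) pr pr := by
  let q := A.orbitMap o
  obtain ⟨pr, hpr⟩ := TorsorPush.exists_desc q (fst G₁ G₂ ≫ q₁) fun Y a b hab => by
    obtain ⟨h, rfl⟩ := exists_coset_mul hq a b hab
    rw [← Category.assoc, ← Category.assoc, MonObj.mul_comp, Category.assoc h, lift_fst, coset_mul_eq hq₁]
  haveI hf₁ : Flat (q.left ≫ pr.left) := by
    rw [← Over.comp_left, hpr, Over.comp_left]
    haveI : Flat (fst G₁ G₂).left := MorphismProperty.pullback_fst (P := @Flat) G₁.hom G₂.hom (by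
      infer_instance)
    infer_instance
  have hs : Surjective pr.left := by
    haveI : Surjective (q.left ≫ pr.left) := by
      rw [← Over.comp_left, hpr, Over.comp_left]
      haveI : Surjective (fst G₁ G₂).left := ⟨fun g => ⟨(lift (𝟙 G₁) (1 : G₁ ⟶ G₂)).left g, by
        rw [← Scheme.Hom.comp_apply, ← Over.comp_left, lift_fst]; rfl⟩⟩
      infer_instance
    exact Surjective.of_comp q.left pr.left
  refine ⟨pr, FlatDescStalk.flat_of_comp q.left pr.left, hs, ?_⟩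
  let c := A.restrict (inr G₁ G₂)
  have hc : ∀ {T : Over S} (g : T ⟶ G₂) (p : T ⟶ G₁ ⊗ G₂),
      lift g (p ≫ q) ≫ c.act = (lift (1 : T ⟶ G₁) g * p) ≫ q := fun g p => by
    rw [AlgGrp.Action.lift_restrict_act, comp_inr, lift_orbit]
  haveI := TorsorPush.isFpqc_whiskerLeft G₂ q
  haveI : Epi (G₂ ◁ q) := TorsorPush.epi_of_isFpqc _
  have hw : c.act ≫ pr = snd G₂ X ≫ pr := by
    rw [← cancel_epi (G₂ ◁ q)]
    have e : (G₂ ◁ q) = lift (fst G₂ (G₁ ⊗ G₂)) (snd G₂ (G₁ ⊗ G₂) ≫ q) := by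
      apply CartesianMonoidalCategory.hom_ext <;> simp
    rw [e, ← Category.assoc, hc, Category.assoc, hpr, ← Category.assoc, MonObj.mul_comp, lift_fst,
      _root_.one_mul, lift_snd_assoc, Category.assoc, Category.assoc, hpr]
  have huniq : ∀ {T : Over S} (g g' : T ⟶ G₂) (x : T ⟶ X),
      lift g x ≫ c.act = lift g' x ≫ c.act → g = g' := by
    intro T g g' x e
    obtain ⟨T', k, p, hk, hp⟩ := AssocBundle.exists_fpqc_lift q x
    haveI := hk
    haveI := TorsorPush.epi_of_isFpqc k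
    have e' : (lift (1 : T' ⟶ G₁) (k ≫ g) * p) ≫ q = (lift (1 : T' ⟶ G₁) (k ≫ g') * p) ≫ q := by
      rw [← hc, ← hc, hp, ← comp_lift_assoc, ← comp_lift_assoc, e]
    obtain ⟨h, hh⟩ := exists_coset_mul hq _ _ e'
    have h1 := congrArg (· ≫ fst G₁ G₂) hh
    simp only [MonObj.mul_comp, lift_fst, Category.assoc, _root_.one_mul] at h1
    have : h = 1 := coset_mul_left_cancel hq₁ (p ≫ fst G₁ G₂) h h1.symm
    rw [this, MonObj.one_comp, _root_.mul_one] at hh
    have h2 := congrArg (· ≫ snd G₁ G₂) (mul_right_cancel hh)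
    simp only [lift_snd] at h2
    rw [← cancel_epi k, h2]
  have hex : ∀ s : PullbackCone pr pr, ∃ g : s.pt ⟶ G₂, lift g s.snd ≫ c.act = s.fst := fun s => by
    obtain ⟨T₁, k₁, p₁, hk₁, hk₁', hk₁'', hp₁⟩ := exists_qc_lift q s.fst
    obtain ⟨T₂, k₂, p₂, hk₂, hk₂', hk₂'', hp₂⟩ := exists_qc_lift q (k₁ ≫ s.snd)
    haveI := hk₁; haveI := hk₂; haveI := hk₁'; haveI := hk₂'; haveI := hk₁''; haveI := hk₂''
    let k := k₂ ≫ k₁
    haveI : SchDesc.IsFpqc k.left := by
      have h := SchDesc.IsFpqc.of_quasiCompact (k₂.left ≫ k₁.left)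
      exact h
    let p := k₂ ≫ p₁
    have hp : p ≫ q = k ≫ s.fst := by simp only [p, k, Category.assoc, hp₁]
    have hp' : p₂ ≫ q = k ≫ s.snd := by rw [hp₂, Category.assoc]
    have e : (p₂ ≫ fst G₁ G₂) ≫ q₁ = (p ≫ fst G₁ G₂) ≫ q₁ := by
      rw [Category.assoc, Category.assoc, ← hpr, reassoc_of% hp', reassoc_of% hp, s.condition]
    obtain ⟨h, hh⟩ := exists_coset_mul hq₁ _ _ e
    let g' : T₂ ⟶ G₂ := (p ≫ snd G₁ G₂) * ((p₂ ≫ snd G₁ G₂) * (h ≫ i₂))⁻¹
    have hg' : lift g' (k ≫ s.snd) ≫ c.act = k ≫ s.fst := by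
      rw [← hp', hc, ← hp, ← coset_mul_eq hq (lift (1 : T₂ ⟶ G₁) g' * p₂) h]
      congr 1
      apply CartesianMonoidalCategory.hom_ext
      · simp only [MonObj.mul_comp, lift_fst, Category.assoc, _root_.one_mul, hh]
      · simp only [MonObj.mul_comp, lift_snd, Category.assoc, g', _root_.mul_assoc, inv_mul_cancel,
          _root_.mul_one]
    obtain ⟨g, hg⟩ := TorsorPush.exists_desc k g' fun Y a b hab => huniq _ _ (a ≫ k ≫ s.snd) (by
      conv_lhs => rw [← comp_lift_assoc, hg', ← Category.assoc, hab, Category.assoc, ← hg', comp_lift_assoc]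
      rw [← Category.assoc b, ← hab, Category.assoc])
    haveI := TorsorPush.epi_of_isFpqc k
    exact ⟨g, by rw [← cancel_epi k, ← Category.assoc, comp_lift, hg, hg']⟩
  choose l hl using hex
  refine IsPullback.of_isLimit' ⟨hw⟩ (PullbackCone.IsLimit.mk hw (fun s => lift (l s) s.snd)
    (fun s => hl s) (fun s => lift_snd _ _) fun s m h₁ h₂ => ?_)
  have em : m = lift (m ≫ fst G₂ X) s.snd := by rw [← h₂, ← comp_lift, lift_fst_snd, Category.comp_id]
  refine em.trans ?_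
  congr 1
  refine huniq _ _ s.snd ?_
  rw [hl, ← em, h₁]

end Groth.Agent.SpecialBir
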